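import Groth.Agent.L25.CentralLift.Exponent

/-!
# Lifting central homomorphisms of etale groups of multiplicative type
-/

set_option autoImplicit false
universe u

open CategoryTheory CategoryTheory.Limits MonoidalCategory CartesianMonoidalCategory MonObj GrpObj
open AlgebraicGeometry

set_option backward.isDefEq.respectTransparency.types false
set_option linter.style.haveILetI false

noncomputable section

namespace Groth.L25.CentralLift

variable {S S₀ : Scheme.{u}} (i : S₀ ⟶ S) {H G : Over S} [GrpObj H] [GrpObj G]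

theorem exists_exponent_restr (hH : SGA3x.IsMultTypeFT H) [Etale H.hom] (y : H.left) :
    ∃ (V : H.left.Opens) (n : ℕ), y ∈ V ∧ Inv n V ∧ (restrι H V) ^ n = 1 := by
  obtain ⟨O, n, hs, hn, h⟩ := exists_exponent hH (H.hom y)
  exact ⟨H.hom ⁻¹ᵁ O, n, hs, hn.comp (H.hom ∣_ O), h⟩

theorem good_of_isMonHom (hH : SGA3x.IsMultTypeFT H) [Etale H.hom] (u : H ⟶ G) [IsMonHom u] : Good u := fun y => by
  obtain ⟨V, n, hy, hn, h⟩ := exists_exponent_restr hH y
  exact ⟨V, n, hy, hn, by rw [← MonObj.pow_comp, h, MonObj.one_comp]⟩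

theorem centralMod_of_map_eq {u : H ⟶ G} {u₀ : Red.bc i H ⟶ Red.bc i G} (h : (Over.pullback i).map u = u₀)
    (hc₀ : ∀ (W : Over S₀) (x : W ⟶ Red.bc i H) (g : W ⟶ Red.bc i G), (x ≫ u₀) * g = g * (x ≫ u₀)) :
    CentralMod i u := fun Z x g => by rw [h]; exact hc₀ Z x g

variable [Flat G.hom] [LocallyOfFinitePresentation G.hom] [IsClosedImmersion i]

/-- a central homomorphism over the thickened base -/
theorem exists_central_lift (hH : SGA3x.IsMultTypeFT H) [Etale H.hom] [Surjective (pullback.fst H.hom i)]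
    (u₀ : Red.bc i H ⟶ Red.bc i G) [IsMonHom u₀]
    (hc₀ : ∀ (W : Over S₀) (x : W ⟶ Red.bc i H) (g : W ⟶ Red.bc i G), (x ≫ u₀) * g = g * (x ≫ u₀)) :
    ∃ u : H ⟶ G, IsMonHom u ∧ (Over.pullback i).map u = u₀ ∧
      (∀ (X : Over S) [Surjective (pullback.fst X.hom i)] (x : X ⟶ H) (g : X ⟶ G), (x ≫ u) * g = g * (x ≫ u)) ∧
      ∀ u' : H ⟶ G, IsMonHom u' → (Over.pullback i).map u' = u₀ → u' = u := by
  obtain ⟨u, hu, hmap⟩ := exists_good_lift i u₀ hc₀ fun y => by
    obtain ⟨V, n, hy, hn, h⟩ := exists_exponent_restr hH y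
    refine ⟨V, n, hy, hn, ?_⟩
    rw [← MonObj.pow_comp]
    show (((Over.pullback i).homMonoidHom (restrι H V)) ^ n) ≫ u₀ = 1
    rw [← map_pow, h, map_one, MonObj.one_comp]
  have hc := centralMod_of_map_eq i hmap hc₀
  have hcent : ∀ (X : Over S) [Surjective (pullback.fst X.hom i)] (x : X ⟶ H) (g : X ⟶ G),
      (x ≫ u) * g = g * (x ≫ u) :=
    fun X _ x g => commute_of_good i (hu.comp x) (hc.comp i x) g
  have hmul : μ[H] ≫ u = (u ⊗ₘ u) ≫ μ[G] := by
    haveI := surjective_fst_of_hom i (fst H H)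
    rw [MonObj.mul_eq_mul, MonObj.mul_eq_mul, MonObj.comp_mul, tensorHom_fst, tensorHom_snd]
    refine ext_of_good i (hu.comp _) ((hu.comp _).mul (hu.comp _) (hcent _ (fst H H) _)) (hc.comp i _) ?_
    show (Over.pullback i).map ((fst H H * snd H H) ≫ u) =
      (Over.pullback i).homMonoidHom ((fst H H ≫ u) * (snd H H ≫ u))
    rw [map_mul, Functor.map_comp, hmap]
    show (Over.pullback i).homMonoidHom (fst H H * snd H H) ≫ u₀ =
      (Over.pullback i).map (fst H H ≫ u) * (Over.pullback i).map (snd H H ≫ u)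
    rw [map_mul, MonObj.mul_comp, Functor.map_comp, Functor.map_comp, hmap]
    rfl
  have hone : η[H] ≫ u = η[G] := by
    have h1 : ∀ (K : Over S) [GrpObj K], (η[K] : 𝟙_ (Over S) ⟶ K) = 1 :=
      fun K _ => by rw [Hom.one_def, toUnit_unique (toUnit _) (𝟙 _), Category.id_comp]
    have h2 : ∀ x y : 𝟙_ (Over S) ⟶ H, (x * y) ≫ u = (x ≫ u) * (y ≫ u) := fun x y => by
      rw [Hom.mul_def, Category.assoc, hmul, ← Category.assoc, lift_map, ← Hom.mul_def]
    have h3 := h2 1 1
    rw [_root_.one_mul] at h3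
    rw [h1 H, h1 G]
    exact left_eq_mul.1 h3
  refine ⟨u, ⟨hone, hmul⟩, hmap, hcent, fun u' hu' h => ?_⟩
  haveI := hu'
  exact ext_of_good i (good_of_isMonHom hH u') hu (centralMod_of_map_eq i h hc₀) (h.trans hmap.symm)

theorem surjective_of_nil {A : Type u} [CommRing A] (J : Ideal A) (hJ : ∀ x ∈ J, IsNilpotent x) :
    Surjective (Spec.map (CommRingCat.ofHom (Ideal.Quotient.mk J))) := ⟨fun (p : PrimeSpectrum A) => by
  have : p ∈ Set.range (PrimeSpectrum.comap (Ideal.Quotient.mk J)) := by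
    rw [range_comap_of_surjective _ _ Ideal.Quotient.mk_surjective]
    intro a ha
    rw [SetLike.mem_coe, Ideal.mk_ker] at ha
    obtain ⟨n, hn⟩ := hJ a ha
    exact p.isPrime.mem_of_pow_mem n (hn ▸ zero_mem _)
  exact this⟩

end Groth.L25.CentralLift
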