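import Groth.Agent.S8395
import Groth.Agent.S9696
import Groth.Agent.L05.Point.FibreMap
import Groth.Agent.L05.Point.UnramDescent
import Groth.Agent.L23.SchemeFlatAt
import Groth.Agent.L08.MulEtaleBC
import Groth.Agent.L25.NilAction
import Groth.Agent.L27.TopInv.Hom

/-!
# The etale locus of a power map and its central points
-/

set_option autoImplicit false
universe u

open CategoryTheory CategoryTheory.Limits MonoidalCategory CartesianMonoidalCategory MonObj GrpObj
open AlgebraicGeometry

set_option backward.isDefEq.respectTransparency.types false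
set_option linter.style.haveILetI false

noncomputable section

namespace Groth.L25.CentralLift

open Groth.L05.Point

section Base

variable {S P : Scheme.{u}} (j : P ⟶ S) {G : Over S}

theorem toBase_pow [GrpObj G] {Y : Over P} (a : Y ⟶ Red.bc j G) (n : ℕ) :
    NilAction.toBase j (a ^ n) = NilAction.toBase j a ^ n := by
  induction n with
  | zero => rw [pow_zero, pow_zero, NilAction.toBase_one]
  | succ n ih => rw [pow_succ, pow_succ, NilAction.toBase_mul, ih]

theorem toBase_injective {Y : Over P} : Function.Injective (NilAction.toBase (X := G) (Y := Y) j) :=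
  fun a b h => by rw [← NilAction.ofBase_toBase j a, ← NilAction.ofBase_toBase j b, h]

theorem toBase_comp {Y Z : Over P} (f : Z ⟶ Y) (a : Y ⟶ Red.bc j G) :
    NilAction.toBase j (f ≫ a) = (Over.homMk f.left (by
      show f.left ≫ Y.hom ≫ j = Z.hom ≫ j
      rw [← Category.assoc, Over.w f]) : Over.mk (Z.hom ≫ j) ⟶ Over.mk (Y.hom ≫ j)) ≫
      NilAction.toBase j a :=
  Over.OverMorphism.ext (Category.assoc _ _ _)

theorem comp_pow_id [GrpObj G] {Y : Over S} (a : Y ⟶ G) (n : ℕ) : a ≫ (𝟙 G : G ⟶ G) ^ n = a ^ n := by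
  rw [MonObj.comp_pow, Category.comp_id]

end Base

variable {S : Scheme.{u}} {G : Over S} [GrpObj G]

variable (G) in
/-- the power map -/
abbrev pw (n : ℕ) : G ⟶ G := (𝟙 G : G ⟶ G) ^ n

variable (G) in
/-- the open where the power map is etale -/
def locus (n : ℕ) : G.left.Opens :=
  ⨆ (V : G.left.Opens) (_ : Etale (V.ι ≫ (pw G n).left)), V

theorem mem_locus {n : ℕ} {x : G.left} : x ∈ locus G n ↔ Nhd @Etale (pw G n).left x := by
  simp only [locus, TopologicalSpace.Opens.mem_iSup]
  exact ⟨fun ⟨V, hV, hx⟩ => ⟨V, hx, hV⟩, fun ⟨V, hx, hV⟩ => ⟨V, hV, hx⟩⟩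

instance etale_locus (n : ℕ) : Etale ((locus G n).ι ≫ (pw G n).left) := by
  let U := locus G n
  have h : ∀ x : U.toScheme, Nhd @Etale (U.ι ≫ (pw G n).left) x := fun x =>
    nhd_openImm_comp _ U.ι x (mem_locus.1 x.2)
  choose V hV hE using h
  exact IsZariskiLocalAtSource.of_iSup_eq_top (P := @Etale) V
    (top_le_iff.1 fun x _ => TopologicalSpace.Opens.mem_iSup.2 ⟨x, hV x⟩) hE

variable [Flat G.hom] [LocallyOfFinitePresentation G.hom]

/-- etaleness of the power map at a point can be tested after base change -/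
theorem mem_locus_iff_bc {S' : Scheme.{u}} (ξ : S' ⟶ S) (n : ℕ) (z : (Red.bc ξ G).left) :
    Nhd @Etale (pw (Red.bc ξ G) n).left z ↔ pullback.fst G.hom ξ z ∈ locus G n := by
  rw [mem_locus]
  have hmap : (Over.pullback ξ).map (pw G n) = pw (Red.bc ξ G) n := by
    show (Over.pullback ξ).homMonoidHom (pw G n) = _
    rw [map_pow]
    congr 1
    exact (Over.pullback ξ).map_id G
  have sqU : IsPullback (pullback.fst G.hom ξ) (pw (Red.bc ξ G) n).left (pw G n).left (pullback.fst G.hom ξ) := by
    rw [← hmap]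
    exact (Groth.L08.MulEtale.isPullback_map ξ (pw G n)).flip
  have sqV : IsPullback (pullback.fst G.hom ξ) (Red.bc ξ G).hom G.hom ξ := IsPullback.of_hasPullback _ _
  have hw : (pw G n).left ≫ G.hom = G.hom := Over.w (pw G n)
  haveI : LocallyOfFinitePresentation ((pw G n).left ≫ G.hom) := by rw [hw]; infer_instance
  haveI : Flat ((pw G n).left ≫ G.hom) := by rw [hw]; infer_instance
  haveI := Groth.L20.locallyOfFinitePresentation_of_comp (pw G n).left G.hom
  haveI : LocallyOfFinitePresentation (pw (Red.bc ξ G) n).left :=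
    MorphismProperty.of_isPullback sqU inferInstance
  refine ⟨fun h => ?_, fun h => nhd_of_isPullback sqU z h⟩
  obtain ⟨h1, h2⟩ := (nhd_etale_iff _ z).1 h
  exact (nhd_etale_iff _ _).2 ⟨nhd_formallyUnramified_of_isPullback sqU h1,
    (Groth.L23.flat_stalkMap_baseChange_iff (g := G.hom) sqU sqV z).1 h2⟩

/-- a point commuting with all points lies in the etale locus of the invertible power maps -/
theorem central_mem_locus {K : Type u} [Field K] (ξ : Spec (CommRingCat.of K) ⟶ S) (n : ℕ) (hn : (n : K) ≠ 0)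
    (p : Over.mk ξ ⟶ G)
    (hc : ∀ (Z : Over S) (q : Z ⟶ Over.mk ξ) (g : Z ⟶ G), (q ≫ p) * g = g * (q ≫ p)) :
    p.left (IsLocalRing.closedPoint K) ∈ locus G n := by
  let GK := Red.bc ξ G
  let e : Over.mk ((𝟙_ (Over (Spec (CommRingCat.of K)))).hom ≫ ξ) ⟶ Over.mk ξ :=
    Over.homMk (𝟙 _) (by show 𝟙 _ ≫ ξ = 𝟙 _ ≫ ξ; rfl)
  let g : 𝟙_ (Over (Spec (CommRingCat.of K))) ⟶ GK := NilAction.ofBase ξ (e ≫ p)
  haveI : LocallyOfFiniteType GK.hom :=
    MorphismProperty.pullback_snd (P := @LocallyOfFiniteType) G.hom ξ inferInstance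
  obtain ⟨U, hgU, hU⟩ := Groth.Agent.S8395.result K GK n hn g fun X x => by
    refine toBase_injective ξ ?_
    rw [NilAction.toBase_mul, NilAction.toBase_mul, toBase_comp, NilAction.toBase_ofBase, ← Category.assoc]
    exact hc _ _ _
  have h := (mem_locus_iff_bc ξ n (g.left (IsLocalRing.closedPoint K))).1 ⟨U, hgU ⟨_, rfl⟩, hU⟩
  have e1 : g.left ≫ pullback.fst G.hom ξ = p.left := (pullback.lift_fst _ _ _).trans (Category.id_comp _)
  rwa [← Scheme.Hom.comp_apply, e1] at h

/-- the etale locus of a power map is stable under conjugation -/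
theorem conj_mem_locus {K : Type u} [Field K] (ξ : Spec (CommRingCat.of K) ⟶ S) (n : ℕ)
    (p g : Over.mk ξ ⟶ G) (hp : p.left (IsLocalRing.closedPoint K) ∈ locus G n) :
    (g * p * g⁻¹).left (IsLocalRing.closedPoint K) ∈ locus G n := by
  let GK := Red.bc ξ G
  let e : Over.mk ((𝟙_ (Over (Spec (CommRingCat.of K)))).hom ≫ ξ) ⟶ Over.mk ξ :=
    Over.homMk (𝟙 _) (by show 𝟙 _ ≫ ξ = 𝟙 _ ≫ ξ; rfl)
  let p' : 𝟙_ (Over (Spec (CommRingCat.of K))) ⟶ GK := NilAction.ofBase ξ (e ≫ p)
  let g' : 𝟙_ (Over (Spec (CommRingCat.of K))) ⟶ GK := NilAction.ofBase ξ (e ≫ g)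
  let c : (𝟙_ (Over (Spec (CommRingCat.of K))) ⟶ GK) → (GK ⟶ GK) :=
    fun x => (toUnit GK ≫ x) * 𝟙 GK * (toUnit GK ≫ x)⁻¹
  have hc : ∀ x {Z : Over (Spec (CommRingCat.of K))} (a : Z ⟶ GK),
      a ≫ c x = (toUnit Z ≫ x) * a * (toUnit Z ≫ x)⁻¹ := fun x Z a => by
    simp only [c, MonObj.comp_mul, GrpObj.comp_inv, Category.comp_id, ← Category.assoc]
    rw [toUnit_unique (a ≫ toUnit GK) (toUnit Z)]
  have hcomp : ∀ x, c x⁻¹ ≫ c x = 𝟙 GK := fun x => by
    rw [hc]
    simp only [c, GrpObj.comp_inv]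
    group
  have hcomp' : ∀ x, c x ≫ c x⁻¹ = 𝟙 GK := fun x => by
    rw [hc]
    simp only [c, GrpObj.comp_inv]
    group
  haveI hiso : IsIso (c g') := ⟨c g'⁻¹, hcomp' g', hcomp g'⟩
  haveI : IsIso (c g').left := inferInstanceAs (IsIso ((Over.forget _).map (c g')))
  have hpow : c g' ≫ pw GK n = pw GK n ≫ c g' := by
    rw [comp_pow_id, hc]
    exact conj_pow
  have h1 : Nhd @Etale (pw GK n).left (p'.left (IsLocalRing.closedPoint K)) := by
    refine (mem_locus_iff_bc ξ n _).2 ?_
    have e1 : p'.left ≫ pullback.fst G.hom ξ = p.left := (pullback.lift_fst _ _ _).trans (Category.id_comp _)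
    rwa [← Scheme.Hom.comp_apply, e1]
  have h2 : Nhd @Etale (pw GK n).left ((c g').left (p'.left (IsLocalRing.closedPoint K))) := by
    obtain ⟨V, hV, hE⟩ := h1
    refine nhd_of_openImm (P := @Etale) _ (V.ι ≫ (c g').left) ⟨_, hV⟩ ?_
    rw [Category.assoc, ← Over.comp_left, hpow, Over.comp_left, ← Category.assoc,
      MorphismProperty.cancel_right_of_respectsIso @Etale]
    exact hE
  have h3 := (mem_locus_iff_bc ξ n _).1 h2
  have e2 : NilAction.toBase ξ (p' ≫ c g') = e ≫ (g * p * g⁻¹) := by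
    rw [hc, toUnit_unique (toUnit _) (𝟙 _), Category.id_comp, MonObj.comp_mul, MonObj.comp_mul, GrpObj.comp_inv,
      eq_mul_inv_iff_mul_eq, ← NilAction.toBase_ofBase ξ (e ≫ g), ← NilAction.toBase_ofBase ξ (e ≫ p),
      ← NilAction.toBase_mul, ← NilAction.toBase_mul]
    congr 1
    show g' * p' * g'⁻¹ * g' = g' * p'
    group
  have e3 := congrArg (fun m => m.left (IsLocalRing.closedPoint K)) e2
  simp only [Over.comp_left, Scheme.Hom.comp_apply] at e3
  exact e3 ▸ h3

section Tors

variable (G) in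
/-- the points killed by `n` in the etale locus of the `n`-th power map -/
def tors (n : ℕ) : Over S :=
  Over.mk (pullback.snd ((locus G n).ι ≫ (pw G n).left) η[G].left ≫ (𝟙_ (Over S)).hom)

omit [Flat G.hom] [LocallyOfFinitePresentation G.hom] in
instance etale_tors (n : ℕ) : Etale (tors G n).hom := by
  have h1 : Etale (pullback.snd ((locus G n).ι ≫ (pw G n).left) η[G].left) :=
    MorphismProperty.pullback_snd (P := @Etale) _ _ inferInstance
  show Etale (pullback.snd _ _ ≫ 𝟙 S)
  rw [Category.comp_id]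
  exact h1

variable (G) in
/-- the inclusion -/
def torsι (n : ℕ) : tors G n ⟶ G :=
  Over.homMk (pullback.fst _ _ ≫ (locus G n).ι) (by
    show (_ ≫ (locus G n).ι) ≫ G.hom = pullback.snd _ _ ≫ (𝟙_ (Over S)).hom
    rw [← Over.w η[G], ← Category.assoc, ← pullback.condition, Category.assoc, Category.assoc, Category.assoc,
      Over.w (pw G n)])

omit [Flat G.hom] [LocallyOfFinitePresentation G.hom]

theorem torsι_pow (n : ℕ) : torsι G n ^ n = 1 := by
  rw [← comp_pow_id, Hom.one_def]
  apply Over.OverMorphism.ext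
  show (pullback.fst _ _ ≫ (locus G n).ι) ≫ (pw G n).left = (toUnit (tors G n)).left ≫ η[G].left
  rw [Category.assoc, pullback.condition]
  congr 1

instance mono_torsι (n : ℕ) : Mono (torsι G n) := ⟨fun {Z} a b h => by
  apply Over.OverMorphism.ext
  apply pullback.hom_ext
  · rw [← cancel_mono (locus G n).ι, Category.assoc, Category.assoc]
    exact congrArg (fun m => m.left) h
  · have ha := Over.w a
    have hb := Over.w b
    change a.left ≫ pullback.snd _ _ ≫ 𝟙 S = Z.hom at ha
    change b.left ≫ pullback.snd _ _ ≫ 𝟙 S = Z.hom at hb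
    have e := Category.comp_id (pullback.snd ((locus G n).ι ≫ (pw G n).left) η[G].left)
    exact ((congrArg (a.left ≫ ·) e).symm.trans ha).trans ((congrArg (b.left ≫ ·) e).symm.trans hb).symm⟩

theorem range_torsι_le (n : ℕ) (y : (tors G n).left) : (torsι G n).left y ∈ locus G n :=
  (pullback.fst ((locus G n).ι ≫ (pw G n).left) η[G].left y).2

theorem exists_tors_lift {n : ℕ} {Z : Over S} (t : Z ⟶ G) (h : t ^ n = 1)
    (hr : ∀ z : Z.left, t.left z ∈ locus G n) : ∃ t' : Z ⟶ tors G n, t' ≫ torsι G n = t := by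
  have hr' : Set.range t.left ⊆ Set.range (locus G n).ι := by
    rintro _ ⟨z, rfl⟩
    rw [Scheme.Opens.range_ι]
    exact hr z
  let l := IsOpenImmersion.lift (locus G n).ι t.left hr'
  have hl : l ≫ (locus G n).ι = t.left := IsOpenImmersion.lift_fac _ _ _
  have h1 : t.left ≫ (pw G n).left = (toUnit Z).left ≫ η[G].left := by
    rw [← Over.comp_left, ← Over.comp_left, comp_pow_id, h, Hom.one_def]
  refine ⟨Over.homMk (pullback.lift l (toUnit Z).left (by rw [← Category.assoc, hl, h1])) ?_, ?_⟩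
  · show pullback.lift _ _ _ ≫ pullback.snd _ _ ≫ (𝟙_ (Over S)).hom = Z.hom
    rw [pullback.lift_snd_assoc]
    exact Over.w (toUnit Z)
  · apply Over.OverMorphism.ext
    show pullback.lift _ _ _ ≫ pullback.fst _ _ ≫ _ = _
    rw [pullback.lift_fst_assoc, hl]

end Tors

/-- morphisms into etale schemes do not see thickenings of the source -/
theorem bijective_map_etale {S₀ : Scheme.{u}} (i : S₀ ⟶ S) [IsClosedImmersion i] (X Y : Over S) [Etale X.hom]
    [Surjective (pullback.fst Y.hom i)] :
    Function.Bijective (fun φ : Y ⟶ X => (Over.pullback i).map φ) := by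
  let g := pullback.fst Y.hom i
  haveI : IsClosedImmersion g := MorphismProperty.pullback_fst (P := @IsClosedImmersion) Y.hom i inferInstance
  have hg := Groth.L27.TopInv.univSubmersive_of_universallyClosed g
  haveI : UniversallyInjective g := inferInstance
  let q := pullback.fst Y.hom X.hom
  haveI : Etale q := MorphismProperty.pullback_fst (P := @Etale) Y.hom X.hom inferInstance
  haveI : IsIso (pullback.snd (𝟙 Y.left) g) := inferInstance
  have key : ∀ φ : Y ⟶ X, ((Over.pullback i).map φ).left ≫ pullback.fst X.hom i = g ≫ φ.left :=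
    fun φ => pullback.lift_fst _ _ _
  have hmk : ∀ (ψ : Red.bc i Y ⟶ Red.bc i X), ∃! u : Y.left ⟶ pullback Y.hom X.hom, u ≫ q = 𝟙 _ ∧
      pullback.snd (𝟙 Y.left) g ≫ pullback.lift g (ψ.left ≫ pullback.fst X.hom i) (by
        rw [Category.assoc, pullback.condition, pullback.condition, ← Category.assoc]
        exact congrArg (· ≫ i) (Over.w ψ).symm) = pullback.fst (𝟙 Y.left) g ≫ u := fun ψ =>
    Groth.L27.TopInv.existsUnique_hom_of_univInjective g hg (𝟙 Y.left) q _ (by
      rw [Category.assoc, pullback.lift_fst, ← pullback.condition])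
  have hu : ∀ φ : Y ⟶ X, (fun u => u ≫ q = 𝟙 _ ∧
      pullback.snd (𝟙 Y.left) g ≫ pullback.lift g (((Over.pullback i).map φ).left ≫ pullback.fst X.hom i) (by
        rw [Category.assoc, pullback.condition, pullback.condition, ← Category.assoc]
        exact congrArg (· ≫ i) (Over.w ((Over.pullback i).map φ)).symm) = pullback.fst (𝟙 Y.left) g ≫ u)
      (pullback.lift (𝟙 _) φ.left (by rw [Category.id_comp, Over.w φ])) := fun φ => by
    refine ⟨pullback.lift_fst _ _ _, ?_⟩
    have hc : pullback.fst (𝟙 Y.left) g = pullback.snd (𝟙 Y.left) g ≫ g := by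
      rw [← pullback.condition, Category.comp_id]
    apply pullback.hom_ext
    · simp only [Category.assoc, pullback.lift_fst, Category.comp_id]
      exact hc.symm
    · simp only [Category.assoc, pullback.lift_snd, key, ← hc]
      rw [← Category.assoc, ← hc]
  refine ⟨fun φ φ' h => ?_, fun ψ => ?_⟩
  · have h' : (Over.pullback i).map φ = (Over.pullback i).map φ' := h
    obtain ⟨h1, h2⟩ := hu φ'
    simp only [← h'] at h2
    have e := (hmk ((Over.pullback i).map φ)).unique (hu φ) ⟨h1, h2⟩
    have := congrArg (fun m => m ≫ pullback.snd Y.hom X.hom) e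
    simp only [pullback.lift_snd] at this
    exact Over.OverMorphism.ext this
  · obtain ⟨u, ⟨hu1, hu2⟩, -⟩ := hmk ψ
    let φ : Y ⟶ X := Over.homMk (u ≫ pullback.snd Y.hom X.hom) (by
      rw [Category.assoc, ← pullback.condition, ← Category.assoc, hu1, Category.id_comp])
    refine ⟨φ, Over.OverMorphism.ext (pullback.hom_ext ((key φ).trans ?_)
      ((Over.w ((Over.pullback i).map φ)).trans (Over.w ψ).symm))⟩
    have hc : pullback.fst (𝟙 Y.left) g = pullback.snd (𝟙 Y.left) g ≫ g := by
      rw [← pullback.condition, Category.comp_id]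
    have := congrArg (fun m => m ≫ pullback.snd Y.hom X.hom) hu2
    simp only [Category.assoc, pullback.lift_snd, hc] at this
    exact ((cancel_epi (pullback.snd (𝟙 Y.left) g)).1 this).symm

end Groth.L25.CentralLift
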