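import Groth.Agent.L25.CentralLift.Hom
import Groth.Agent.L25.CompleteLevels
import Groth.Agent.L25.FixedEtale

/-!
# Central lifts over complete local rings
-/

set_option autoImplicit false
universe u

open CategoryTheory CategoryTheory.Limits MonoidalCategory CartesianMonoidalCategory MonObj GrpObj
open AlgebraicGeometry

set_option backward.isDefEq.respectTransparency.types false
set_option linter.style.haveILetI false

noncomputable section

namespace Groth.L25.CentralLift

open Groth.L25.Cocycle Groth.L25.CompleteLevels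

section Tors

variable {S : Scheme.{u}} {G : Over S} [GrpObj G] [Flat G.hom] [LocallyOfFinitePresentation G.hom]

/-- the conjugate of a point killed by `n` -/
theorem exists_conj_tors (n : ℕ) :
    ∃ c : G ⊗ tors G n ⟶ tors G n,
      c ≫ torsι G n = fst G (tors G n) * (snd G (tors G n) ≫ torsι G n) * (fst G (tors G n))⁻¹ := by
  refine exists_tors_lift _ ?_ fun z => ?_
  · rw [conj_pow, ← MonObj.comp_pow, torsι_pow, MonObj.comp_one, _root_.mul_one, mul_inv_cancel]
  · let L := (G ⊗ tors G n).left.residueField z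
    let ξ : Spec (CommRingCat.of L) ⟶ S := (G ⊗ tors G n).left.fromSpecResidueField z ≫ (G ⊗ tors G n).hom
    let ζ : Over.mk ξ ⟶ G ⊗ tors G n := Over.homMk ((G ⊗ tors G n).left.fromSpecResidueField z) rfl
    have h := conj_mem_locus ξ n ((ζ ≫ snd G (tors G n)) ≫ torsι G n) (ζ ≫ fst G (tors G n))
      (range_torsι_le n _)
    rw [Category.assoc, ← GrpObj.comp_inv, ← MonObj.comp_mul, ← MonObj.comp_mul, Over.comp_left,
      Scheme.Hom.comp_apply] at h
    have hz : ζ.left (IsLocalRing.closedPoint L) = z := Scheme.fromSpecResidueField_apply _ _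
    exact hz ▸ h

variable (G) in
/-- conjugation on the points killed by `n` -/
def conjTors (n : ℕ) : AlgGrp.Action G (tors G n) where
  act := (exists_conj_tors (G := G) n).choose
  one_act := by
    rw [← cancel_mono (torsι G n), Category.assoc, (exists_conj_tors (G := G) n).choose_spec]
    simp only [MonObj.comp_mul, GrpObj.comp_inv, whiskerRight_fst, whiskerRight_snd_assoc]
    rw [show fst (𝟙_ (Over S)) (tors G n) ≫ η[G] = 1 by
      rw [Hom.one_def, toUnit_unique (fst _ _) (toUnit _)]]
    simp [leftUnitor_hom]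
  mul_act := by
    rw [← cancel_mono (torsι G n), Category.assoc, Category.assoc, Category.assoc,
      (exists_conj_tors (G := G) n).choose_spec]
    simp only [MonObj.comp_mul, GrpObj.comp_inv, whiskerRight_fst, whiskerRight_snd_assoc, whiskerLeft_fst,
      whiskerLeft_snd_assoc, (exists_conj_tors (G := G) n).choose_spec, associator_hom_fst,
      associator_hom_snd_fst_assoc, associator_hom_snd_snd_assoc, associator_hom_snd_fst, _root_.mul_inv_rev]
    rw [MonObj.mul_eq_mul, MonObj.comp_mul, _root_.mul_assoc, _root_.mul_assoc, _root_.mul_assoc,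
      _root_.mul_assoc, _root_.mul_assoc, _root_.mul_inv_rev]

theorem conjTors_act (n : ℕ) {Y : Over S} (g : Y ⟶ G) (x : Y ⟶ tors G n) :
    lift g x ≫ (conjTors G n).act ≫ torsι G n = g * (x ≫ torsι G n) * g⁻¹ := by
  show lift g x ≫ (exists_conj_tors (G := G) n).choose ≫ torsι G n = _
  rw [(exists_conj_tors (G := G) n).choose_spec, MonObj.comp_mul, MonObj.comp_mul, GrpObj.comp_inv, lift_fst,
    lift_snd_assoc]

/-- points killed by `n` are central when the fibres are connected -/
theorem commute_tors (hconn : ∀ s : S, ConnectedSpace (G.hom.fiber s)) (n : ℕ) {Y : Over S}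
    (x : Y ⟶ tors G n) (g : Y ⟶ G) : (x ≫ torsι G n) * g = g * (x ≫ torsι G n) := by
  let b : AlgGrp.Action G (𝟙_ (Over S)) :=
    { act := toUnit _, one_act := toUnit_unique _ _, mul_act := toUnit_unique _ _ }
  have he : Etale (toUnit (tors G n)).left := by
    rw [show (toUnit (tors G n)).left = (tors G n).hom from Over.toUnit_left]
    infer_instance
  haveI : FormallyUnramified (toUnit (tors G n)).left := inferInstance
  haveI : LocallyOfFiniteType (toUnit (tors G n)).left := inferInstance
  haveI : IsOpenImmersion (pullback.diagonal (toUnit (tors G n)).left) := inferInstance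
  have h := FixedEtale.smul_eq (conjTors G n) b (toUnit (tors G n)) (toUnit_unique _ _) hconn g x
    (fun T' t h => toUnit_unique _ _)
  have h2 := congrArg (fun k => k ≫ torsι G n) h
  simp only [Category.assoc, conjTors_act] at h2
  exact (mul_inv_eq_iff_eq_mul.1 h2).symm

end Tors

section Complete

variable {A : Type u} [CommRing A] [IsLocalRing A] [IsNoetherianRing A]
  [IsAdicComplete (IsLocalRing.maximalIdeal A) A]

local notation "m" => IsLocalRing.maximalIdeal A

variable (A) in
/-- the closed point -/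
abbrev cl := Spec.map (CommRingCat.ofHom (Ideal.Quotient.mk (IsLocalRing.maximalIdeal A)))

instance isClosedImmersion_cl : IsClosedImmersion (cl A) := IsClosedImmersion.spec_of_surjective _ Ideal.Quotient.mk_surjective

omit [IsNoetherianRing A] [IsAdicComplete (IsLocalRing.maximalIdeal A) A] in
theorem closedPoint_mem_range (q : PrimeSpectrum A) (hq : q = IsLocalRing.closedPoint A) : q ∈ Set.range (cl A) := by
  subst hq
  have : IsLocalRing.closedPoint A ∈ Set.range (PrimeSpectrum.comap (Ideal.Quotient.mk m)) := by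
    rw [range_comap_of_surjective _ _ Ideal.Quotient.mk_surjective]
    intro a ha
    rw [SetLike.mem_coe, Ideal.mk_ker] at ha
    exact ha
  exact this

omit [IsNoetherianRing A] [IsAdicComplete (IsLocalRing.maximalIdeal A) A] in
theorem surjective_fst_level {k : ℕ} {Y : Over (Spec (CommRingCat.of A))} (p : Y ⟶ Z (m ^ k)) :
    Surjective (pullback.fst Y.hom (cl A)) := ⟨fun y => by
  let q : PrimeSpectrum A := Y.hom y
  have hq : m ≤ q.asIdeal := by
    have e : q = PrimeSpectrum.comap (Ideal.Quotient.mk (m ^ k)) (p.left y) := by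
      show Y.hom y = (Z (m ^ k)).hom (p.left y)
      rw [← Scheme.Hom.comp_apply, Over.w p]
    intro a ha
    refine q.isPrime.mem_of_pow_mem k ?_
    rw [e]
    show Ideal.Quotient.mk (m ^ k) (a ^ k) ∈ (p.left y).asIdeal
    rw [Ideal.Quotient.eq_zero_iff_mem.2 (Ideal.pow_mem_pow ha k)]
    exact zero_mem _
  obtain ⟨s, hs⟩ := closedPoint_mem_range q (PrimeSpectrum.ext
    ((IsLocalRing.maximalIdeal.isMaximal A).eq_of_le q.isPrime.ne_top hq).symm)
  obtain ⟨z, hz, -⟩ := Scheme.Pullback.exists_preimage_pullback (f := Y.hom) (g := (cl A)) y s hs.symm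
  exact ⟨z, hz⟩⟩

variable {M G : Over (Spec (CommRingCat.of A))} [GrpObj M] [GrpObj G] [IsFinite M.hom] [Etale M.hom]
  (hM : SGA3x.IsMultTypeFT M) [Flat G.hom] [LocallyOfFinitePresentation G.hom]
  (u₀ : Red.bc (cl A) M ⟶ Red.bc (cl A) G) [IsMonHom u₀]
  (hc₀ : ∀ (W : Over (Spec (CommRingCat.of (A ⧸ IsLocalRing.maximalIdeal A)))) (x : W ⟶ Red.bc (cl A) M) (g : W ⟶ Red.bc (cl A) G), (x ≫ u₀) * g = g * (x ≫ u₀))

include hM in
theorem exists_global_exponent :
    ∃ n : ℕ, Inv n (Spec (CommRingCat.of A)) ∧ (𝟙 M : M ⟶ M) ^ n = 1 := by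
  obtain ⟨O, n, hs, hn, h⟩ := exists_exponent hM (IsLocalRing.closedPoint A)
  have hO : ∀ q : PrimeSpectrum A, q ∈ O := fun q => (IsLocalRing.specializes_closedPoint q).mem_open O.2 hs
  refine ⟨n, fun K _ ξ => hn K (IsOpenImmersion.lift O.ι ξ (by
    rintro _ ⟨z, rfl⟩
    rw [Scheme.Opens.range_ι]
    exact hO _)), eq_of_cover fun y => ⟨M.hom ⁻¹ᵁ O, hO _, ?_⟩⟩
  rw [MonObj.comp_pow, Category.comp_id, h, MonObj.comp_one]

include hM hc₀ in
theorem exists_level (k : ℕ) : ∃ f : M ⊗ Z (m ^ k) ⟶ G, Good f ∧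
    (Over.pullback (cl A)).map f = (Over.pullback (cl A)).map (fst M (Z (m ^ k))) ≫ u₀ := by
  haveI := surjective_fst_level (snd M (Z (m ^ k)))
  refine exists_good_lift (cl A) ((Over.pullback (cl A)).map (fst M (Z (m ^ k))) ≫ u₀) (fun W x g => ?_) fun y => ?_
  · rw [← Category.assoc]
    exact hc₀ W _ g
  · obtain ⟨V, n, hy, hn, h⟩ := (good_of_isMonHom hM (𝟙 M)).comp (fst M (Z (m ^ k))) y
    refine ⟨V, n, hy, hn, ?_⟩
    rw [Category.comp_id] at h
    rw [← Category.assoc, ← Functor.map_comp, ← MonObj.pow_comp]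
    show (((Over.pullback (cl A)).homMonoidHom (restrι _ V ≫ fst M (Z (m ^ k)))) ^ n) ≫ u₀ = 1
    rw [← map_pow, h, map_one, MonObj.one_comp]

include hM hc₀ in
theorem exists_complete_lift :
    ∃ u : M ⟶ G, IsMonHom u ∧ (Over.pullback (cl A)).map u = u₀ ∧
      ∀ u' : M ⟶ G, IsMonHom u' → (Over.pullback (cl A)).map u' = u₀ → u' = u := by
  choose f hfg hfm using fun k => exists_level hM u₀ hc₀ k
  have hcf : ∀ k, CentralMod (cl A) (f k) := fun k W x g => by
    rw [hfm, ← Category.assoc]
    exact hc₀ W _ g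
  obtain ⟨φ, hφ⟩ := exists_levels f (fun k => by
    haveI := surjective_fst_level (snd M (Z (m ^ k)))
    refine ext_of_good (cl A) ((hfg (k + 1)).comp _) (hfg k) ((hcf (k + 1)).comp (cl A) _) ?_
    rw [Functor.map_comp, hfm, hfm, ← Category.assoc, ← Functor.map_comp, whiskerLeft_fst])
  have hlev : ∀ (k : ℕ) {Y : Over (Spec (CommRingCat.of A))} (p : Y ⟶ Z (m ^ k)) (a : Y ⟶ M),
      a ≫ φ = lift a p ≫ f k := fun k Y p a => by
    rw [← hφ k, lift_fst_assoc]
  have hmap : (Over.pullback (cl A)).map φ = u₀ := by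
    let W := Red.bc (cl A) M
    let Y : Over (Spec (CommRingCat.of A)) := Over.mk (W.hom ≫ (cl A))
    let p : Y ⟶ Z (m ^ 1) := (Over.homMk W.hom rfl : Y ⟶ Z m) ≫ zMap (le_of_eq (pow_one m))
    let a : Y ⟶ M := NilAction.toBase (cl A) (𝟙 W)
    have h3 := NilAction.ofBase_comp (cl A) a φ
    have h4 : NilAction.ofBase (cl A) (a ≫ φ) = NilAction.ofBase (cl A) a ≫ u₀ := by
      rw [hlev 1 p a, ← NilAction.ofBase_comp (cl A) (lift a p) (f 1), hfm, ← Category.assoc,
        NilAction.ofBase_comp (cl A) (lift a p) (fst M (Z (m ^ 1))), lift_fst]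
    rw [h4] at h3
    simpa only [a, NilAction.ofBase_toBase, Category.id_comp] using h3
  have hgood : ∀ (k : ℕ) {Y : Over (Spec (CommRingCat.of A))} (_ : Y ⟶ Z (m ^ k)) (a : Y ⟶ M), Good (a ≫ φ) :=
    fun k Y p a => by rw [hlev k p a]; exact (hfg k).comp _
  have hcen : CentralMod (cl A) φ := centralMod_of_map_eq (cl A) hmap hc₀
  have hmul : μ[M] ≫ φ = (φ ⊗ₘ φ) ≫ μ[G] := by
    have hfin : IsFinite (M ⊗ M).hom := by
      have h1 : IsFinite (pullback.fst M.hom M.hom) :=
        MorphismProperty.pullback_fst (P := @IsFinite) M.hom M.hom inferInstance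
      show IsFinite (pullback.fst M.hom M.hom ≫ M.hom)
      infer_instance
    refine ext_levels _ _ fun k Y p h => ?_
    haveI := surjective_fst_level p
    rw [MonObj.mul_eq_mul, MonObj.mul_eq_mul, MonObj.comp_mul, tensorHom_fst, tensorHom_snd, MonObj.comp_mul,
      ← Category.assoc, MonObj.comp_mul, ← Category.assoc h (fst M M), ← Category.assoc h (snd M M)]
    generalize h ≫ fst M M = a
    generalize h ≫ snd M M = b
    refine ext_of_good (cl A) (hgood k p _) ((hgood k p a).mul (hgood k p b)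
      (commute_of_good (cl A) (hgood k p a) (hcen.comp (cl A) a) _)) (hcen.comp (cl A) _) ?_
    show (Over.pullback (cl A)).map ((a * b) ≫ φ) = (Over.pullback (cl A)).homMonoidHom ((a ≫ φ) * (b ≫ φ))
    rw [map_mul, Functor.map_comp, hmap]
    show (Over.pullback (cl A)).homMonoidHom (a * b) ≫ u₀ =
      (Over.pullback (cl A)).map (a ≫ φ) * (Over.pullback (cl A)).map (b ≫ φ)
    rw [map_mul, MonObj.mul_comp, Functor.map_comp, Functor.map_comp, hmap]
    rfl
  have hone : η[M] ≫ φ = η[G] := by
    have h1 : ∀ (K : Over (Spec (CommRingCat.of A))) [GrpObj K],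
        (η[K] : 𝟙_ (Over (Spec (CommRingCat.of A))) ⟶ K) = 1 :=
      fun K _ => by rw [Hom.one_def, toUnit_unique (toUnit _) (𝟙 _), Category.id_comp]
    have h2 : ∀ x y : 𝟙_ (Over (Spec (CommRingCat.of A))) ⟶ M, (x * y) ≫ φ = (x ≫ φ) * (y ≫ φ) := fun x y => by
      rw [Hom.mul_def, Category.assoc, hmul, ← Category.assoc, lift_map, ← Hom.mul_def]
    have h3 := h2 1 1
    rw [_root_.one_mul] at h3
    rw [h1 M, h1 G]
    exact left_eq_mul.1 h3
  refine ⟨φ, ⟨hone, hmul⟩, hmap, fun u' hu' h => ext_levels _ _ fun k Y p a => ?_⟩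
  haveI := hu'
  haveI := surjective_fst_level p
  exact ext_of_good (cl A) ((good_of_isMonHom hM u').comp a) (hgood k p a)
    ((centralMod_of_map_eq (cl A) h hc₀).comp (cl A) a) (by rw [Functor.map_comp, Functor.map_comp, h, hmap])

include hM hc₀ in
theorem central_of_connected (hconn : ∀ s : ↥(Spec (CommRingCat.of A)), ConnectedSpace (G.hom.fiber s)) (u : M ⟶ G) [IsMonHom u]
    (hu : (Over.pullback (cl A)).map u = u₀) (X : Over (Spec (CommRingCat.of A))) (x : X ⟶ M) (g : X ⟶ G) :
    (x ≫ u) * g = g * (x ≫ u) := by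
  obtain ⟨n, hn, hpow⟩ := exists_global_exponent hM
  have hun : u ^ n = 1 := by
    rw [← Category.id_comp u, ← MonObj.pow_comp, hpow, MonObj.one_comp]
  have hrange : ∀ y : M.left, u.left y ∈ locus G n := by
    intro y
    obtain ⟨y₁, hy₁, hyy⟩ : ∃ y₁ : M.left, M.hom y₁ = IsLocalRing.closedPoint A ∧ y ⤳ y₁ := by
      have hcl : IsClosed (M.hom '' closure {y}) := M.hom.isClosedMap _ isClosed_closure
      have hsp : (M.hom y : PrimeSpectrum A) ⤳ IsLocalRing.closedPoint A := IsLocalRing.specializes_closedPoint _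
      obtain ⟨y₁, hy₁, he⟩ := hsp.mem_closed hcl ⟨y, subset_closure rfl, rfl⟩
      exact ⟨y₁, he, specializes_iff_mem_closure.2 hy₁⟩
    refine hyy.mem_open ((locus G n).2.preimage u.left.continuous) ?_
    obtain ⟨s, hs⟩ := closedPoint_mem_range (M.hom y₁) hy₁
    obtain ⟨z, hz, -⟩ := Scheme.Pullback.exists_preimage_pullback (f := M.hom) (g := (cl A)) y₁ s hs.symm
    have hinv : Inv n (Red.bc (cl A) M).left := hn.comp ((Red.bc (cl A) M).hom ≫ (cl A))
    have h := toBase_mem_locus (cl A) ((Over.pullback (cl A)).map u) (fun W a b => by rw [hu]; exact hc₀ W a b) hinv z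
    have e : (NilAction.toBase (cl A) ((Over.pullback (cl A)).map u)).left = pullback.fst M.hom (cl A) ≫ u.left :=
      pullback.lift_fst _ _ _
    rw [e, Scheme.Hom.comp_apply, hz] at h
    exact h
  obtain ⟨u', hu'⟩ := exists_tors_lift u hun hrange
  rw [← hu', ← Category.assoc]
  exact commute_tors hconn n (x ≫ u') g

end Complete

end Groth.L25.CentralLift
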