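import Groth.Agent.L25.CentralLift.Good
import Groth.Agent.L25.Extend.EtaleSplit
import Groth.Agent.L25.DiagIso
import Groth.Agent.L25.MaxTorus.Image
import Mathlib.GroupTheory.Perm.Cycle.Type
import Mathlib.RingTheory.Unramified.Field
import Mathlib.RingTheory.Etale.Basic
import Mathlib.Algebra.CharP.Algebra
import Mathlib.Algebra.CharP.Lemmas

/-!
# Etale groups of multiplicative type are killed by invertible integers
-/

set_option autoImplicit false
universe u

open CategoryTheory CategoryTheory.Limits MonoidalCategory CartesianMonoidalCategory MonObj GrpObj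
open AlgebraicGeometry

set_option backward.isDefEq.respectTransparency.types false
set_option linter.style.haveILetI false

noncomputable section

namespace Groth.L25.CentralLift

/-- the order of `M` is prime to the characteristic when `K[M]` is etale over `K` -/
theorem card_ne_zero_of_etale {K : Type u} [Field K] {M : Type} [AddCommGroup M]
    [Algebra.Etale K (MonoidAlgebra K (Multiplicative M))] : Finite M ∧ (Nat.card M : K) ≠ 0 := by
  let A := MonoidAlgebra K (Multiplicative M)
  haveI : Algebra.FiniteType K A := inferInstance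
  haveI : Module.Free K A := Module.Free.of_divisionRing _ _
  haveI : Module.Finite K A := Algebra.FormallyUnramified.finite_of_free K A
  haveI : IsReduced A := Algebra.FormallyUnramified.isReduced_of_field K A
  haveI : Finite (Multiplicative M) := Module.Finite.finite_basis (MonoidAlgebra.basis (Multiplicative M) K)
  haveI hfin : Finite M := Finite.of_equiv _ Multiplicative.toAdd
  refine ⟨hfin, fun h0 => ?_⟩
  obtain ⟨p, hp⟩ := CharP.exists K
  have hdvd : p ∣ Nat.card M := (CharP.cast_eq_zero_iff K p _).1 h0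
  have hpp : p.Prime := by
    rcases CharP.char_is_prime_or_zero K p with h | h
    · exact h
    · rw [h, zero_dvd_iff] at hdvd
      exact absurd hdvd Nat.card_pos.ne'
  haveI : Fact p.Prime := ⟨hpp⟩
  obtain ⟨g, hg⟩ := exists_prime_orderOf_dvd_card' (G := Multiplicative M) p
    (by rwa [Nat.card_congr Multiplicative.toAdd])
  haveI : CharP A p := charP_of_injective_algebraMap (algebraMap K A).injective p
  have h1 : (MonoidAlgebra.single g (1 : K) - 1 : A) ^ p = 0 := by
    rw [sub_pow_char, one_pow, MonoidAlgebra.single_pow, one_pow, ← hg, pow_orderOf_eq_one]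
    exact sub_self _
  have h2 := sub_eq_zero.1 (IsReduced.eq_zero _ ⟨p, h1⟩)
  rw [MonoidAlgebra.one_def] at h2
  have := MonoidAlgebra.single_left_injective one_ne_zero h2
  rw [this, orderOf_one] at hg
  exact hpp.one_lt.ne hg

variable {S : Scheme.{u}}

/-- restrictions killed -/
theorem restr_pow_of_cover {H : Over S} [GrpObj H] {S' : Scheme.{u}} (f : S' ⟶ S) [Flat f] {O : S.Opens}
    (hO : ∀ x : S, x ∈ O ↔ x ∈ Set.range f) {n : ℕ} (h : (𝟙 (Red.bc f H)) ^ n = 1) :
    (restrι H (H.hom ⁻¹ᵁ O)) ^ n = 1 := by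
  let V := H.hom ⁻¹ᵁ O
  let Z : Over S := Over.mk ((Red.bc f H).hom ≫ f)
  let t : Z ⟶ H := NilAction.toBase f (𝟙 (Red.bc f H))
  have ht : t ^ n = 1 := by
    show (NilAction.toBase f (𝟙 (Red.bc f H))) ^ n = 1
    rw [← toBase_pow, h, NilAction.toBase_one]
  have htl : t.left = pullback.fst H.hom f := Category.id_comp _
  have hr : Set.range t.left ⊆ Set.range V.ι := by
    rintro _ ⟨z, rfl⟩
    rw [Scheme.Opens.range_ι]
    show H.hom (t.left z) ∈ O
    rw [hO, htl]
    refine ⟨pullback.snd H.hom f z, ?_⟩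
    rw [← Scheme.Hom.comp_apply, ← Scheme.Hom.comp_apply, pullback.condition]
  let r := IsOpenImmersion.lift V.ι t.left hr
  have hrl : r ≫ V.ι = t.left := IsOpenImmersion.lift_fac _ _ _
  haveI : Flat t.left := htl ▸ MorphismProperty.pullback_fst (P := @Flat) H.hom f inferInstance
  haveI : Flat r := MorphismProperty.of_isPullback (Groth.L05.Point.isPullback_of_mono r V.ι)
    (hrl.symm ▸ inferInstance)
  haveI : Surjective r := ⟨fun v => by
    obtain ⟨s', hs'⟩ := (hO (H.hom v.1)).1 v.2
    obtain ⟨z, hz, -⟩ := Scheme.Pullback.exists_preimage_pullback (f := H.hom) (g := f) v.1 s' hs'.symm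
    refine ⟨z, V.ι.isOpenEmbedding.injective ?_⟩
    rw [← Scheme.Hom.comp_apply, hrl, htl]
    exact hz⟩
  let rO : Z ⟶ restr H V := Over.homMk r (by
    show r ≫ V.ι ≫ H.hom = _
    rw [← Category.assoc, hrl]
    exact Over.w t)
  have hrO : rO ≫ restrι H V = t := Over.OverMorphism.ext hrl
  haveI : Epi r := Flat.epi_of_flat_of_surjective r
  haveI : Epi rO.left := inferInstanceAs (Epi r)
  haveI : Epi rO := Over.epi_of_epi_left rO
  rw [← cancel_epi rO, MonObj.comp_pow, hrO, ht, MonObj.comp_one]

/-- etale groups of multiplicative type are locally killed by invertible integers -/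
theorem exists_exponent {H : Over S} [GrpObj H] (hH : SGA3x.IsMultTypeFT H) [Etale H.hom] (s : S) :
    ∃ (O : S.Opens) (n : ℕ), s ∈ O ∧ Inv n O ∧ (restrι H (H.hom ⁻¹ᵁ O)) ^ n = 1 := by
  obtain ⟨S', f, hf, ⟨s', hs'⟩, M, _, -, ⟨e⟩⟩ := Extend.exists_etale_split hH s
  haveI := hf
  have : IsIso e.hom.hom.hom := ⟨e.inv.hom.hom, congr($(e.hom_inv_id).hom.hom), congr($(e.inv_hom_id).hom.hom)⟩
  haveI : Etale (Red.bc f H).hom := MorphismProperty.pullback_snd (P := @Etale) H.hom f inferInstance
  haveI : Etale (Red.DS S' M).hom := by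
    have : IsIso e.inv.hom.hom := ⟨e.hom.hom.hom, congr($(e.inv_hom_id).hom.hom), congr($(e.hom_inv_id).hom.hom)⟩
    have : IsIso e.inv.hom.hom.left := inferInstanceAs (IsIso ((Over.forget _).map e.inv.hom.hom))
    rw [← Over.w e.inv.hom.hom]
    infer_instance
  have key : ∀ (K : Type u) [Field K] (_ : Spec (CommRingCat.of K) ⟶ S'), Finite M ∧ (Nat.card M : K) ≠ 0 := by
    intro K _ ξ
    let c := ActBC.bcCompIso ξ (specULiftZIsTerminal.from S') (Red.diag (ULift.{u} ℤ) M)
      (d := specULiftZIsTerminal.from (Spec (CommRingCat.of K))) (specULiftZIsTerminal.hom_ext _ _)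
    haveI : Etale (Red.bc ξ (Red.DS S' M)).hom := MorphismProperty.pullback_snd (P := @Etale) _ ξ inferInstance
    haveI h2 : Etale (Red.DS (Spec (CommRingCat.of K)) M).hom := by
      haveI : IsIso c.inv.left := inferInstanceAs (IsIso ((Over.forget _).map c.inv))
      have h0 : Etale (c.inv.left ≫ (Red.bc ξ (Red.DS S' M)).hom) := inferInstance
      rw [Over.w c.inv] at h0
      exact h0
    haveI : Etale (Red.diag K M).hom := by
      haveI : IsIso (DiagIso.theta K M) := inferInstanceAs (IsIso (DiagIso.isoOver K M).hom)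
      haveI : IsIso (DiagIso.theta K M).left := inferInstanceAs (IsIso ((Over.forget _).map (DiagIso.theta K M)))
      rw [← Over.w (DiagIso.theta K M)]
      infer_instance
    haveI : Algebra.Etale K (MonoidAlgebra K (Multiplicative M)) :=
      RingHom.etale_algebraMap.1 ((HasRingHomProperty.Spec_iff (P := @Etale)).1
        (show Etale (Spec.map (CommRingCat.ofHom (algebraMap K (MonoidAlgebra K (Multiplicative M))))) from
          inferInstanceAs (Etale (Red.diag K M).hom)))
    exact card_ne_zero_of_etale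
  haveI : Finite M := (key _ (S'.fromSpecResidueField s')).1
  let O : S.Opens := ⟨Set.range f, f.isOpenMap.isOpen_range⟩
  refine ⟨O, Nat.card M, ⟨s', hs'⟩, fun K _ ξ h0 => ?_, restr_pow_of_cover f (fun x => Iff.rfl) ?_⟩
  · let p := IsLocalRing.closedPoint K
    obtain ⟨z, hz⟩ := (ξ p).2
    obtain ⟨φ, -⟩ : ∃ φ : S.residueField ((ξ ≫ O.ι) p) ⟶ CommRingCat.of K, True :=
      ⟨Scheme.descResidueField (Scheme.stalkClosedPointTo (ξ ≫ O.ι)), trivial⟩
    have hz' : f z = (ξ ≫ O.ι) p := hz
    rw [← hz'] at φ
    have h1 : (Nat.card M : S.residueField (f z)) = 0 := φ.hom.injective (((map_natCast φ.hom _).trans h0).trans (map_zero φ.hom).symm)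
    apply (key _ (S'.fromSpecResidueField z)).2
    exact (map_natCast (f.residueFieldMap z).hom _).symm.trans ((congrArg _ h1).trans (map_zero _))
  · refine Groth.L25.TorusTorsion.pow_id_transfer e.inv.hom.hom e.hom.hom.hom congr($(e.hom_inv_id).hom.hom) _ ?_
    have h := Groth.L25.MaxTorus.DSmap_nsmul (𝟙 (Red.DS S' M)) (Nat.card M)
    have h' := Groth.L25.MaxTorus.DSmap_nsmul (𝟙 (Red.DS S' M)) 0
    rw [pow_zero] at h'
    rw [← h, ← h']
    congr 1
    congr 1
    exact AddMonoidHom.ext fun x => by simp [card_nsmul_eq_zero']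

end Groth.L25.CentralLift
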