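import Groth.Agent.L25.CentralLift.Etale

/-!
# Points killed by invertible integers: unique lifting and centrality
-/

set_option autoImplicit false
universe u

open CategoryTheory CategoryTheory.Limits MonoidalCategory CartesianMonoidalCategory MonObj GrpObj
open AlgebraicGeometry

set_option backward.isDefEq.respectTransparency.types false
set_option linter.style.haveILetI false

noncomputable section

namespace Groth.L25.CentralLift

/-- `n` is invertible on `X` -/
def Inv (n : ℕ) (X : Scheme.{u}) : Prop :=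
  ∀ (K : Type u) [Field K] (_ : Spec (CommRingCat.of K) ⟶ X), (n : K) ≠ 0

theorem Inv.comp {n : ℕ} {X X' : Scheme.{u}} (h : Inv n X) (f : X' ⟶ X) : Inv n X' :=
  fun K _ ξ => h K (ξ ≫ f)

theorem Inv.mul {n m : ℕ} {X : Scheme.{u}} (h : Inv n X) (h' : Inv m X) : Inv (n * m) X :=
  fun K _ ξ => by rw [Nat.cast_mul]; exact mul_ne_zero (h K ξ) (h' K ξ)

variable {S : Scheme.{u}}

/-- an open piece -/
abbrev restr (Y : Over S) (V : Y.left.Opens) : Over S := Over.mk (V.ι ≫ Y.hom)

/-- the inclusion of an open piece -/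
abbrev restrι (Y : Over S) (V : Y.left.Opens) : restr Y V ⟶ Y := Over.homMk V.ι rfl

theorem eq_of_immersions {S' : Scheme.{u}} {Y X : Over S'} {a b : Y ⟶ X}
    (h : ∀ y : Y.left, ∃ (Z : Over S') (f : Z ⟶ Y), IsOpenImmersion f.left ∧ y ∈ Set.range f.left ∧ f ≫ a = f ≫ b) :
    a = b := by
  choose Z f hf hy hab using h
  haveI := hf
  apply Over.OverMorphism.ext
  let 𝒰 := Scheme.openCoverOfIsOpenCover Y.left (fun y => (f y).left.opensRange)
    (TopologicalSpace.IsOpenCover.mk (top_le_iff.1 fun y _ => TopologicalSpace.Opens.mem_iSup.2 ⟨y, hy y⟩))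
  refine 𝒰.hom_ext _ _ fun y => ?_
  show ((f y).left.opensRange).ι ≫ _ = ((f y).left.opensRange).ι ≫ _
  rw [← Scheme.Hom.isoOpensRange_inv_comp, Category.assoc, Category.assoc]
  exact congrArg (_ ≫ ·) (congrArg (fun m => m.left) (hab y))

theorem eq_of_cover {Y X : Over S} {a b : Y ⟶ X}
    (h : ∀ y : Y.left, ∃ V : Y.left.Opens, y ∈ V ∧ restrι Y V ≫ a = restrι Y V ≫ b) : a = b :=
  eq_of_immersions fun y => by
    obtain ⟨V, hy, h⟩ := h y
    exact ⟨_, restrι Y V, inferInstanceAs (IsOpenImmersion V.ι), by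
      show y ∈ Set.range V.ι
      rw [Scheme.Opens.range_ι]; exact hy, h⟩

variable {G : Over S} [GrpObj G]

/-- locally killed by invertible integers -/
def Good {Y : Over S} (a : Y ⟶ G) : Prop :=
  ∀ y : Y.left, ∃ (V : Y.left.Opens) (n : ℕ), y ∈ V ∧ Inv n V ∧ (restrι Y V ≫ a) ^ n = 1

theorem Good.comp {Y Z : Over S} {a : Y ⟶ G} (h : Good a) (f : Z ⟶ Y) : Good (f ≫ a) := fun z => by
  obtain ⟨V, n, hy, hn, ha⟩ := h (f.left z)
  let r : restr Z (f.left ⁻¹ᵁ V) ⟶ restr Y V := Over.homMk (f.left.resLE V _ le_rfl) (by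
    show f.left.resLE _ _ _ ≫ V.ι ≫ Y.hom = (f.left ⁻¹ᵁ V).ι ≫ Z.hom
    rw [Scheme.Hom.resLE_comp_ι_assoc, Over.w f])
  have hr : restrι Z (f.left ⁻¹ᵁ V) ≫ f = r ≫ restrι Y V :=
    Over.OverMorphism.ext (Scheme.Hom.resLE_comp_ι _ _).symm
  refine ⟨_, n, hy, hn.comp r.left, ?_⟩
  rw [← Category.assoc, hr, Category.assoc, ← MonObj.comp_pow, ha, MonObj.comp_one]

/-- the intersection pieces -/
theorem exists_common {Y : Over S} {a b : Y ⟶ G} (ha : Good a) (hb : Good b) (y : Y.left) :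
    ∃ (V : Y.left.Opens) (n m : ℕ), y ∈ V ∧ Inv n V ∧ Inv m V ∧ (restrι Y V ≫ a) ^ n = 1 ∧
      (restrι Y V ≫ b) ^ m = 1 := by
  obtain ⟨V, n, hy, hn, h⟩ := ha y
  obtain ⟨W, m, hy', hm, h'⟩ := hb y
  let r : restr Y (V ⊓ W) ⟶ restr Y V := Over.homMk (Y.left.homOfLE inf_le_left) (by
    show Y.left.homOfLE _ ≫ V.ι ≫ Y.hom = _
    rw [Scheme.homOfLE_ι_assoc]; rfl)
  let r' : restr Y (V ⊓ W) ⟶ restr Y W := Over.homMk (Y.left.homOfLE inf_le_right) (by
    show Y.left.homOfLE _ ≫ W.ι ≫ Y.hom = _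
    rw [Scheme.homOfLE_ι_assoc]; rfl)
  have hr : restrι Y (V ⊓ W) = r ≫ restrι Y V := Over.OverMorphism.ext (Y.left.homOfLE_ι (inf_le_left : V ⊓ W ≤ V)).symm
  have hr' : restrι Y (V ⊓ W) = r' ≫ restrι Y W := Over.OverMorphism.ext (Y.left.homOfLE_ι (inf_le_right : V ⊓ W ≤ W)).symm
  refine ⟨V ⊓ W, n, m, ⟨hy, hy'⟩, hn.comp r.left, hm.comp r'.left, ?_, ?_⟩
  · rw [hr, Category.assoc, ← MonObj.comp_pow, h, MonObj.comp_one]
  · rw [hr', Category.assoc, ← MonObj.comp_pow, h', MonObj.comp_one]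

theorem Good.mul {Y : Over S} {a b : Y ⟶ G} (ha : Good a) (hb : Good b) (h : a * b = b * a) : Good (a * b) := by
  intro y
  obtain ⟨V, n, m, hy, hn, hm, h1, h2⟩ := exists_common ha hb y
  have hc : Commute (restrι Y V ≫ a) (restrι Y V ≫ b) := by
    show _ * _ = _ * _
    rw [← MonObj.comp_mul, h, MonObj.comp_mul]
  refine ⟨V, n * m, hy, hn.mul hm, ?_⟩
  rw [MonObj.comp_mul, hc.mul_pow, pow_mul, h1, one_pow, _root_.one_mul, mul_comm n m, pow_mul, h2, one_pow]

theorem Good.conj {Y : Over S} {a : Y ⟶ G} (ha : Good a) (g : Y ⟶ G) : Good (g * a * g⁻¹) := fun y => by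
  obtain ⟨V, n, hy, hn, h⟩ := ha y
  refine ⟨V, n, hy, hn, ?_⟩
  rw [MonObj.comp_mul, MonObj.comp_mul, GrpObj.comp_inv, conj_pow, h, _root_.mul_one, mul_inv_cancel]

variable {S₀ : Scheme.{u}} (i : S₀ ⟶ S)

/-- central modulo the thickening -/
def CentralMod {Y : Over S} (a : Y ⟶ G) : Prop :=
  ∀ (Z : Over S₀) (x : Z ⟶ Red.bc i Y) (g : Z ⟶ Red.bc i G),
    (x ≫ (Over.pullback i).map a) * g = g * (x ≫ (Over.pullback i).map a)

theorem CentralMod.comp {Y Y' : Over S} {a : Y ⟶ G} (h : CentralMod i a) (f : Y' ⟶ Y) : CentralMod i (f ≫ a) :=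
  fun Z x g => by
    rw [Functor.map_comp, ← Category.assoc]
    exact h Z _ g

theorem surjective_fst_of_hom {Y Z : Over S} (f : Z ⟶ Y) [Surjective (pullback.fst Y.hom i)] :
    Surjective (pullback.fst Z.hom i) :=
  MorphismProperty.of_isPullback (P := @Surjective) (Groth.L08.MulEtale.isPullback_map i f) inferInstance

variable [Flat G.hom] [LocallyOfFinitePresentation G.hom]

/-- central points of the fibres lie in the etale loci -/
theorem toBase_mem_locus {Z : Over S₀} (b : Z ⟶ Red.bc i G)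
    (hb : ∀ (W : Over S₀) (x : W ⟶ Z) (g : W ⟶ Red.bc i G), (x ≫ b) * g = g * (x ≫ b))
    {n : ℕ} (hn : Inv n Z.left) (z : Z.left) : (NilAction.toBase i b).left z ∈ locus G n := by
  let K := Z.left.residueField z
  let W : Over S₀ := Over.mk (Z.left.fromSpecResidueField z ≫ Z.hom)
  let x : W ⟶ Z := Over.homMk (Z.left.fromSpecResidueField z) rfl
  let ξ : Spec (CommRingCat.of K) ⟶ S := W.hom ≫ i
  let p : Over.mk ξ ⟶ G := NilAction.toBase i (x ≫ b)
  have h := central_mem_locus ξ n (hn K (Z.left.fromSpecResidueField z)) p fun Z' q g => by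
    let W' : Over S₀ := Over.mk (q.left ≫ W.hom)
    let c : Over.mk (W'.hom ≫ i) ⟶ Z' := Over.homMk (𝟙 _) (by
      show 𝟙 _ ≫ Z'.hom = (q.left ≫ W.hom) ≫ i
      rw [Category.id_comp, Category.assoc]
      exact (Over.w q).symm)
    haveI : Epi c.left := inferInstanceAs (Epi (𝟙 Z'.left))
    haveI := Over.epi_of_epi_left c
    let q' : W' ⟶ W := Over.homMk q.left rfl
    have e : c ≫ q ≫ p = NilAction.toBase i (q' ≫ x ≫ b) := by
      rw [toBase_comp]
      apply Over.OverMorphism.ext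
      exact Category.id_comp _
    rw [← cancel_epi c, MonObj.comp_mul, MonObj.comp_mul, e, ← NilAction.toBase_ofBase i (c ≫ g),
      ← NilAction.toBase_mul, ← NilAction.toBase_mul, ← Category.assoc, hb]
  have e1 : p.left = Z.left.fromSpecResidueField z ≫ (NilAction.toBase i b).left := Category.assoc _ _ _
  rw [e1, Scheme.Hom.comp_apply] at h
  have e2 : Z.left.fromSpecResidueField z (IsLocalRing.closedPoint K) = z := Scheme.fromSpecResidueField_apply _ _
  exact e2 ▸ h

theorem mem_locus_of_centralMod {Y : Over S} [Surjective (pullback.fst Y.hom i)] {a : Y ⟶ G} (hc : CentralMod i a)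
    {n : ℕ} (hn : Inv n Y.left) (y : Y.left) : a.left y ∈ locus G n := by
  obtain ⟨y₀, rfl⟩ := (pullback.fst Y.hom i).surjective y
  have h := toBase_mem_locus i ((Over.pullback i).map a) (fun W x g => hc W x g) (hn.comp (pullback.fst Y.hom i)) y₀
  have e : (NilAction.toBase i ((Over.pullback i).map a)).left = pullback.fst Y.hom i ≫ a.left :=
    pullback.lift_fst _ _ _
  rwa [e] at h

variable [IsClosedImmersion i]

/-- uniqueness of lifts -/
theorem ext_of_good {Y : Over S} [Surjective (pullback.fst Y.hom i)] {a b : Y ⟶ G} (ha : Good a) (hb : Good b)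
    (hc : CentralMod i a) (h : (Over.pullback i).map a = (Over.pullback i).map b) : a = b := by
  refine eq_of_cover fun y => ?_
  obtain ⟨V, n, m, hy, hn, hm, h1, h2⟩ := exists_common ha hb y
  haveI := surjective_fst_of_hom i (restrι Y V)
  have hcb : CentralMod i b := fun Z x g => by rw [← h]; exact hc Z x g
  have h1' : (restrι Y V ≫ a) ^ (n * m) = 1 := by rw [pow_mul, h1, one_pow]
  have h2' : (restrι Y V ≫ b) ^ (n * m) = 1 := by rw [mul_comm, pow_mul, h2, one_pow]
  obtain ⟨a', ha'⟩ := exists_tors_lift _ h1' (mem_locus_of_centralMod i (hc.comp i (restrι Y V)) (hn.mul hm))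
  obtain ⟨b', hb'⟩ := exists_tors_lift _ h2' (mem_locus_of_centralMod i (hcb.comp i (restrι Y V)) (hn.mul hm))
  refine ⟨V, hy, ?_⟩
  rw [← ha', ← hb']
  congr 1
  refine (bijective_map_etale i (tors G (n * m)) (restr Y V)).1 ?_
  show (Over.pullback i).map a' = (Over.pullback i).map b'
  rw [← cancel_mono ((Over.pullback i).map (torsι G (n * m))), ← Functor.map_comp, ← Functor.map_comp, ha', hb',
    Functor.map_comp, Functor.map_comp, h]

/-- existence of lifts -/
theorem exists_good_lift {Y : Over S} [Surjective (pullback.fst Y.hom i)] (a₀ : Red.bc i Y ⟶ Red.bc i G)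
    (hc₀ : ∀ (W : Over S₀) (x : W ⟶ Red.bc i Y) (g : W ⟶ Red.bc i G), (x ≫ a₀) * g = g * (x ≫ a₀))
    (hg : ∀ y : Y.left, ∃ (V : Y.left.Opens) (n : ℕ), y ∈ V ∧ Inv n V ∧
      ((Over.pullback i).map (restrι Y V) ≫ a₀) ^ n = 1) :
    ∃ a : Y ⟶ G, Good a ∧ (Over.pullback i).map a = a₀ := by
  choose V n hy hn hpow using hg
  have key : ∀ y : Y.left, ∃ a : restr Y (V y) ⟶ G, a ^ n y = 1 ∧
      (Over.pullback i).map a = (Over.pullback i).map (restrι Y (V y)) ≫ a₀ := by
    intro y
    haveI := surjective_fst_of_hom i (restrι Y (V y))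
    let b := (Over.pullback i).map (restrι Y (V y)) ≫ a₀
    obtain ⟨t', ht'⟩ := exists_tors_lift (NilAction.toBase i b)
      (by rw [← toBase_pow, hpow y, NilAction.toBase_one])
      (toBase_mem_locus i b (fun W x g => by
        simp only [b, ← Category.assoc]
        exact hc₀ W _ g) ((hn y).comp (pullback.fst (restr Y (V y)).hom i)))
    obtain ⟨a', ha'⟩ := (bijective_map_etale i (tors G (n y)) (restr Y (V y))).2 (NilAction.ofBase i t')
    have ha'' : (Over.pullback i).map a' = NilAction.ofBase i t' := ha'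
    refine ⟨a' ≫ torsι G (n y), ?_, ?_⟩
    · rw [← MonObj.comp_pow, torsι_pow, MonObj.comp_one]
    · rw [Functor.map_comp, ha'', NilAction.ofBase_comp, ht', NilAction.ofBase_toBase]
  choose a ha hma using key
  have hgood : ∀ y, Good (a y) := fun y z => ⟨⊤, n y, trivial, (hn y).comp (⊤ : (restr Y (V y)).left.Opens).ι, by
    rw [← MonObj.comp_pow, ha y, MonObj.comp_one]⟩
  have hcen : ∀ y, CentralMod i (a y) := fun y W x g => by
    rw [hma y, ← Category.assoc]
    exact hc₀ W _ g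
  let 𝒰 := Scheme.openCoverOfIsOpenCover Y.left V
    (TopologicalSpace.IsOpenCover.mk (top_le_iff.1 fun y _ => TopologicalSpace.Opens.mem_iSup.2 ⟨y, hy y⟩))
  have hagree : ∀ y y' : Y.left, pullback.fst (V y).ι (V y').ι ≫ (a y).left = pullback.snd _ _ ≫ (a y').left := by
    intro y y'
    let W : Over S := Over.mk (pullback.fst (V y).ι (V y').ι ≫ (restr Y (V y)).hom)
    let p : W ⟶ restr Y (V y) := Over.homMk (pullback.fst _ _) rfl
    let p' : W ⟶ restr Y (V y') := Over.homMk (pullback.snd _ _) (by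
      show pullback.snd _ _ ≫ (V y').ι ≫ Y.hom = pullback.fst _ _ ≫ (V y).ι ≫ Y.hom
      rw [pullback.condition_assoc])
    haveI := surjective_fst_of_hom i (p ≫ restrι Y (V y))
    have he : p ≫ restrι Y (V y) = p' ≫ restrι Y (V y') := Over.OverMorphism.ext pullback.condition
    have := ext_of_good i ((hgood y).comp p) ((hgood y').comp p') ((hcen y).comp i p) (by
      rw [Functor.map_comp, Functor.map_comp, hma, hma, ← Category.assoc, ← Category.assoc,
        ← Functor.map_comp, ← Functor.map_comp, he])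
    exact congrArg (fun m => m.left) this
  let af : Y.left ⟶ G.left := 𝒰.glueMorphisms (fun y => (a y).left) hagree
  have haf : ∀ y, (V y).ι ≫ af = (a y).left := fun y => 𝒰.ι_glueMorphisms _ _ y
  let A : Y ⟶ G := Over.homMk af (𝒰.hom_ext _ _ fun y => by
    show (V y).ι ≫ af ≫ G.hom = (V y).ι ≫ Y.hom
    rw [← Category.assoc, haf]
    exact Over.w (a y))
  have hA : ∀ y, restrι Y (V y) ≫ A = a y := fun y => Over.OverMorphism.ext (haf y)
  refine ⟨A, fun y => ⟨V y, n y, hy y, hn y, by rw [hA, ha]⟩, eq_of_immersions fun y₀ => ?_⟩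
  let y := pullback.fst Y.hom i y₀
  refine ⟨_, (Over.pullback i).map (restrι Y (V y)), ?_, ?_, by rw [← Functor.map_comp, hA, hma]⟩
  · exact MorphismProperty.of_isPullback (Groth.L08.MulEtale.isPullback_map i (restrι Y (V y))).flip
      (inferInstanceAs (IsOpenImmersion (V y).ι))
  · let sq := Groth.L08.MulEtale.isPullback_map i (restrι Y (V y))
    obtain ⟨z, hz, -⟩ := Scheme.Pullback.exists_preimage_pullback (f := pullback.fst Y.hom i)
      (g := (restrι Y (V y)).left) y₀ (⟨y, hy y⟩ : (V y).toScheme) rfl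
    refine ⟨sq.isoPullback.inv z, ?_⟩
    rw [← Scheme.Hom.comp_apply, sq.isoPullback_inv_fst]
    exact hz

/-- lifts of central elements are central -/
theorem commute_of_good {Y : Over S} [Surjective (pullback.fst Y.hom i)] {a : Y ⟶ G} (ha : Good a)
    (hc : CentralMod i a) (g : Y ⟶ G) : a * g = g * a := by
  have h : (Over.pullback i).map (g * a * g⁻¹) = (Over.pullback i).map a := by
    let F := (Over.pullback i).homMonoidHom (X := Y) (M := G)
    show F (g * a * g⁻¹) = F a
    rw [map_mul, map_mul, map_inv, mul_inv_eq_iff_eq_mul]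
    have := hc _ (𝟙 _) ((Over.pullback i).map g)
    rw [Category.id_comp] at this
    exact this.symm
  have := ext_of_good i ha (ha.conj g) hc h.symm
  exact eq_mul_inv_iff_mul_eq.1 this

end Groth.L25.CentralLift
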