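import Groth.Agent.L25.Bridge.Lift
import Groth.Agent.L25.Char.NilLift
import Groth.Agent.L25.Locus.Normalizer
import Groth.Agent.L25.Bridge.TorsionLift
import Groth.Agent.L25.Bridge.SubgroupLift
import Groth.Agent.S9696
import Mathlib.AlgebraicGeometry.Morphisms.Finite

/-!
# Finite groups of multiplicative type lift along nil ideals
-/

set_option autoImplicit false
universe u

open CategoryTheory CategoryTheory.Limits MonoidalCategory CartesianMonoidalCategory
open AlgebraicGeometry TensorProduct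

set_option backward.isDefEq.respectTransparency.types false
set_option linter.style.haveILetI false

noncomputable section

namespace Groth.L25.CentralLift

variable {R : Type u} [CommRing R] {A : Type u} [CommRing A] [HopfAlgebra R A] {I : Ideal R}

theorem exists_span_mod (h : Module.Finite (R ⧸ I) ((R ⧸ I) ⊗[R] A)) :
    ∃ t : Finset A, ∀ a : A, a ∈ Submodule.span R (t : Set A) ⊔ I • (⊤ : Submodule R A) := by
  classical
  haveI := h
  haveI : Module.Finite R (R ⧸ I) := Module.Finite.of_surjective (Algebra.linearMap R (R ⧸ I)) Ideal.Quotient.mk_surjective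
  haveI : Module.Finite R ((R ⧸ I) ⊗[R] A) := Module.Finite.trans (R ⧸ I) _
  haveI : Module.Finite R (A ⧸ (I • ⊤ : Submodule R A)) :=
    Module.Finite.equiv (TensorProduct.quotTensorEquivQuotSMul A I)
  obtain ⟨s, hs⟩ := Module.Finite.fg_top (R := R) (M := A ⧸ (I • ⊤ : Submodule R A))
  choose f hf using fun x : A ⧸ (I • ⊤ : Submodule R A) => Submodule.mkQ_surjective _ x
  refine ⟨s.image f, fun a => ?_⟩
  have h1 : (I • ⊤ : Submodule R A).mkQ a ∈ (Submodule.span R ((s.image f : Finset A) : Set A)).map (I • ⊤ : Submodule R A).mkQ := by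
    rw [Submodule.map_span, Finset.coe_image, ← Set.image_comp]
    have : ((I • ⊤ : Submodule R A).mkQ : A → _) ∘ f = id := funext hf
    rw [this, Set.image_id, hs]
    trivial
  obtain ⟨b, hb, hab⟩ := h1
  have h2 : a - b ∈ (I • ⊤ : Submodule R A) := (Submodule.Quotient.eq _).1 hab.symm
  simpa using Submodule.add_mem_sup hb h2

theorem finite_of_split {C : Type u} [CommRing C] [Algebra R C] (hnil : ∀ x ∈ I, IsNilpotent x) [Nontrivial C]
    {N : Type u} [CommGroup N] (e : C ⊗[R] A ≃ₐc[C] MonoidAlgebra C N)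
    (h : Module.Finite (R ⧸ I) ((R ⧸ I) ⊗[R] A)) : Finite N := by
  classical
  obtain ⟨t, ht⟩ := exists_span_mod h
  let J : Ideal C := I.map (algebraMap R C)
  have hJ : J ≠ ⊤ := fun hJ => by
    have hle : J ≤ nilradical C := Ideal.map_le_iff_le_comap.2 fun x hx => (hnil x hx).map _
    have := hle (hJ ▸ trivial : (1 : C) ∈ J)
    exact not_isNilpotent_one this
  haveI : Nontrivial (C ⧸ J) := Ideal.Quotient.nontrivial_iff.mpr hJ
  let π : MonoidAlgebra C N →+* MonoidAlgebra (C ⧸ J) N := MonoidAlgebra.mapRingHom N (Ideal.Quotient.mk J)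
  have hπs : ∀ (n : N) (c : C), π (MonoidAlgebra.single n c) = MonoidAlgebra.single n (Ideal.Quotient.mk J c) :=
    fun n c => by simp [π]
  have hπsmul : ∀ (c : C) (x : MonoidAlgebra C N), π (c • x) = Ideal.Quotient.mk J c • π x := fun c x => by
    induction x using MonoidAlgebra.induction_linear with
    | zero => simp
    | add p q hp hq => simp [smul_add, hp, hq]
    | single n r => rw [MonoidAlgebra.smul_single', hπs, hπs, MonoidAlgebra.smul_single', map_mul]
  let ψ : A → MonoidAlgebra (C ⧸ J) N := fun a => π (e (1 ⊗ₜ a))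
  have hψ : ∀ a : A, ψ a ∈ Submodule.span (C ⧸ J) (ψ '' (t : Set A)) := by
    intro a
    have hadd : ∀ x y, ψ (x + y) = ψ x + ψ y := fun x y => by simp [ψ, tmul_add]
    have hsm : ∀ (r : R) (x : A), ψ (r • x) = Ideal.Quotient.mk J (algebraMap R C r) • ψ x := fun r x => by
      show π (e ((1 : C) ⊗ₜ (r • x))) = _ • π (e (1 ⊗ₜ x))
      rw [← hπsmul, ← map_smul e, algebraMap_smul, TensorProduct.tmul_smul]
    obtain ⟨b, hb, c, hc, rfl⟩ := Submodule.mem_sup.1 (ht a)
    have hb' : ψ b ∈ Submodule.span (C ⧸ J) (ψ '' (t : Set A)) := by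
      induction hb using Submodule.span_induction with
      | mem x hx => exact Submodule.subset_span ⟨x, hx, rfl⟩
      | zero => simp [ψ]
      | add x y _ _ hx hy => rw [hadd]; exact add_mem hx hy
      | smul r x _ hx => rw [hsm]; exact Submodule.smul_mem _ _ hx
    have hc' : ψ c = 0 := by
      refine Submodule.smul_induction_on (p := fun c => ψ c = 0) hc (fun r hr x _ => ?_) (fun x y hx hy => ?_)
      · rw [hsm, Ideal.Quotient.eq_zero_iff_mem.2 (Ideal.mem_map_of_mem _ hr), zero_smul]
      · rw [hadd, hx, hy, add_zero]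
    rw [hadd, hc', add_zero]
    exact hb'
  have hall : ∀ x : C ⊗[R] A, π (e x) ∈ Submodule.span (C ⧸ J) (ψ '' (t : Set A)) := by
    intro x
    induction x using TensorProduct.induction_on with
    | zero => simp
    | tmul c a =>
      rw [show c ⊗ₜ[R] a = c • ((1 : C) ⊗ₜ[R] a) by rw [TensorProduct.smul_tmul', smul_eq_mul, mul_one], map_smul,
        hπsmul]
      exact Submodule.smul_mem _ _ (hψ a)
    | add x y hx hy => rw [map_add, map_add]; exact add_mem hx hy
  haveI : Module.Finite (C ⧸ J) (MonoidAlgebra (C ⧸ J) N) := ⟨⟨t.image ψ, top_le_iff.1 fun x _ => by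
    rw [Finset.coe_image]
    induction x using MonoidAlgebra.induction_linear with
    | zero => exact zero_mem _
    | add p q hp hq => exact add_mem (hp trivial) (hq trivial)
    | single n r =>
      obtain ⟨r, rfl⟩ := Ideal.Quotient.mk_surjective r
      rw [← hπs, show MonoidAlgebra.single n r = e (e.symm (MonoidAlgebra.single n r)) from (e.apply_symm_apply _).symm]
      exact hall _⟩⟩
  exact Module.Finite.finite_basis (MonoidAlgebra.basis N (C ⧸ J))

theorem isMultTypeFT_of_finite_mod (hnil : ∀ x ∈ I, IsNilpotent x) (hA : SGA3b.IsMultType R A)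
    (h : Module.Finite (R ⧸ I) ((R ⧸ I) ⊗[R] A)) : SGA3x.IsMultTypeFT (Bridge.P R A) := by
  classical
  obtain ⟨ι, _, T, _, _, hff, hd⟩ := Char.exists_split_family hA
  haveI := hff
  have : ∀ i, Module.Flat R (T i) := fun i => Module.Flat.of_retract
    ((LinearMap.single R T i)) (LinearMap.proj i) (LinearMap.proj_comp_single_same R T i)
  refine Bridge.locally_of_family A (ι := ι) this (fun p => ?_) fun i => ?_
  · obtain ⟨w, hw⟩ := PrimeSpectrum.comap_surjective_of_faithfullyFlat (A := R) (B := ∀ i, T i) p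
    obtain ⟨i, hi⟩ : ∃ i, (Pi.single i 1 : ∀ i, T i) ∉ w.asIdeal := by
      by_contra hcon
      push Not at hcon
      refine w.isPrime.ne_top (Ideal.eq_top_iff_one _ |>.2 ?_)
      rw [← Finset.univ_sum_single (1 : ∀ i, T i)]
      exact sum_mem fun i _ => hcon i
    have hker : RingHom.ker (Pi.evalRingHom T i) ≤ w.asIdeal := fun x hx => by
      refine (w.isPrime.mem_or_mem ?_).resolve_left hi
      have : (Pi.single i 1 : ∀ i, T i) * x = 0 := by
        funext j
        rcases eq_or_ne j i with rfl | hj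
        · simpa using hx
        · simp [Pi.single_eq_of_ne hj]
      rw [this]
      exact zero_mem _
    obtain ⟨w', hw'⟩ : w ∈ Set.range (PrimeSpectrum.comap (Pi.evalRingHom T i)) := by
      rw [range_comap_of_surjective _ _ (Function.surjective_eval i)]
      exact hker
    exact ⟨i, w', by rw [← hw, ← hw', ← PrimeSpectrum.comap_comp_apply]; rfl⟩
  · obtain ⟨N, _, ⟨e⟩⟩ := hd i
    rcases subsingleton_or_nontrivial (T i) with hC | hC
    · exact ⟨PUnit, inferInstance, inferInstance, Bridge.bialgEquiv_of_subsingleton⟩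
    · haveI := finite_of_split hnil e h
      haveI : Monoid.FG N := Monoid.fg_iff.2 ⟨Set.univ, Submonoid.closure_univ, Set.finite_univ⟩
      obtain ⟨M, _, hfg, ⟨g⟩⟩ := Bridge.exists_small N
      exact ⟨M, inferInstance, hfg, ⟨e.trans (MonoidAlgebra.domCongrBialgEquiv _ _ g.symm)⟩⟩

/-- finite etale groups of multiplicative type lift along nil ideals -/
theorem exists_etale_group_lift {R : Type u} [CommRing R] (I : Ideal R) (hnil : ∀ x ∈ I, IsNilpotent x)
    (hs : Surjective (Spec.map (CommRingCat.ofHom (Ideal.Quotient.mk I))))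
    (H₀ : Over (Spec (CommRingCat.of (R ⧸ I)))) [GrpObj H₀] [IsFinite H₀.hom] [Etale H₀.hom]
    (hH₀ : SGA3x.IsMultTypeFT H₀) :
    ∃ (H : Over (Spec (CommRingCat.of R))) (_ : GrpObj H), SGA3x.IsMultTypeFT H ∧ Etale H.hom ∧
      Nonempty (Grp.mk (Red.bc (Spec.map (CommRingCat.ofHom (Ideal.Quotient.mk I))) H) ≅ Grp.mk H₀) := by
  let i := Spec.map (CommRingCat.ofHom (Ideal.Quotient.mk I))
  haveI : IsAffine H₀.left := isAffine_of_isAffineHom H₀.hom
  obtain ⟨B, _, _, ⟨e₀⟩⟩ := Bridge.exists_hopf H₀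
  have hfin : Module.Finite (R ⧸ I) B := by
    have : IsIso e₀.inv.hom.hom := ⟨e₀.hom.hom.hom, congr($(e₀.inv_hom_id).hom.hom), congr($(e₀.hom_inv_id).hom.hom)⟩
    have : IsIso e₀.inv.hom.hom.left := inferInstanceAs (IsIso ((Over.forget _).map e₀.inv.hom.hom))
    have h : IsFinite (Bridge.P (R ⧸ I) B).hom := by
      rw [← Over.w e₀.inv.hom.hom]
      infer_instance
    change IsFinite (Spec.map (CommRingCat.ofHom (algebraMap (R ⧸ I) B))) at h
    exact RingHom.finite_algebraMap.1 ((IsFinite.SpecMap_iff _).1 h)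
  obtain ⟨A, _, _, hA, ⟨e⟩⟩ := Char.Descent.exists_quasiIsotrivial_lift I hnil
    (Char.isQuasiIsotrivial (hA := Bridge.isMultType_of_locally B (Bridge.locally_of_iso e₀ (Bridge.locally_of_ft hH₀))))
  have hfin' : Module.Finite (R ⧸ I) ((R ⧸ I) ⊗[R] A) :=
    Module.Finite.equiv (e.symm : B ≃ₐ[R ⧸ I] (R ⧸ I) ⊗[R] A).toLinearEquiv
  have hmt := isMultTypeFT_of_finite_mod hnil (Char.isMultType_of_isQuasiIsotrivial hA) hfin'
  let eiso : Grp.mk (Red.bc i (Bridge.P R A)) ≅ Grp.mk H₀ :=
    Bridge.bcIso' A (R := R) (S := R ⧸ I) rfl ≪≫ Bridge.mapIso e.symm ≪≫ e₀.symm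
  haveI : Flat (Bridge.P R A).hom := Bridge.flat_of_locally (Bridge.locally_of_ft hmt)
  haveI : LocallyOfFinitePresentation (Bridge.P R A).hom := Locus.lfp_of_multTypeFT hmt
  have hE : Etale (Red.bc i (Bridge.P R A)).hom := by
    have : IsIso eiso.hom.hom.hom :=
      ⟨eiso.inv.hom.hom, congr($(eiso.hom_inv_id).hom.hom), congr($(eiso.inv_hom_id).hom.hom)⟩
    have : IsIso eiso.hom.hom.hom.left := inferInstanceAs (IsIso ((Over.forget _).map eiso.hom.hom.hom))
    rw [← Over.w eiso.hom.hom.hom]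
    infer_instance
  refine ⟨Bridge.P R A, inferInstance, hmt, ?_, ⟨eiso⟩⟩
  let X := (Bridge.P R A).left
  let p := (Bridge.P R A).hom
  have h : ∀ x : X, Groth.L05.Point.Nhd @Etale p x := fun x => by
    have hsf : Surjective (pullback.fst p i) := MorphismProperty.pullback_fst (P := @Surjective) p i hs
    obtain ⟨x', rfl⟩ := (pullback.fst p i).surjective x
    refine (Groth.Agent.S9696.result p i x').1 ⟨⊤, trivial, ?_⟩
    exact MorphismProperty.comp_mem _ _ _ (inferInstance : Etale (⊤ : (pullback p i).Opens).ι) hE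
  choose V hV hEt using h
  exact IsZariskiLocalAtSource.of_iSup_eq_top (P := @Etale) V
    (top_le_iff.1 fun x _ => TopologicalSpace.Opens.mem_iSup.2 ⟨x, hV x⟩) hEt

end Groth.L25.CentralLift
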